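import Groth.Agent.CplFib6.CplFinite
import Mathlib.RingTheory.AdicCompletion.LocalRing
import Mathlib.RingTheory.AdicCompletion.Algebra

/-! Completions of local rings with the same truncations are isomorphic. -/

noncomputable section

namespace Groth.Agent.CplBC

universe u

open IsLocalRing

theorem evalₐ_factor {R : Type u} [CommRing R] (I : Ideal R) {m n : ℕ} (h : m ≤ n) (x : AdicCompletion I R) :
    Ideal.Quotient.factorPow I h (AdicCompletion.evalₐ I n x) = AdicCompletion.evalₐ I m x := by
  rw [← AdicCompletion.factor_eval_eq_evalₐ I x (le_of_eq (Ideal.mul_top _)),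
    ← AdicCompletion.factor_eval_eq_evalₐ I x (le_of_eq (Ideal.mul_top _))]
  obtain ⟨a, ha⟩ := Submodule.Quotient.mk_surjective _ (x.val n)
  change Ideal.Quotient.factorPow I h (Submodule.factor _ (x.val n)) = Submodule.factor _ (x.val m)
  rw [← x.2 h, ← ha]
  rfl

variable {R S : Type u} [CommRing R] [CommRing S] {I : Ideal R} {J : Ideal S}

theorem compat (e : ∀ n, R ⧸ I ^ n →+* S ⧸ J ^ n)
    (he : ∀ {m n : ℕ} (h : m ≤ n) x, Ideal.Quotient.factorPow J h (e n x) = e m (Ideal.Quotient.factorPow I h x))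
    {m n : ℕ} (h : m ≤ n) : (Ideal.Quotient.factorPow J h).comp
      ((e n).comp (AdicCompletion.evalₐ I n).toRingHom) =
      (e m).comp (AdicCompletion.evalₐ I m).toRingHom :=
  RingHom.ext fun x => by
    change Ideal.Quotient.factorPow J h (e n (AdicCompletion.evalₐ I n x)) = _
    rw [he, evalₐ_factor]
    rfl

theorem symm_factor (e : ∀ n, R ⧸ I ^ n ≃+* S ⧸ J ^ n)
    (he : ∀ {m n : ℕ} (h : m ≤ n) x, Ideal.Quotient.factorPow J h (e n x) = e m (Ideal.Quotient.factorPow I h x))
    {m n : ℕ} (h : m ≤ n) (y : S ⧸ J ^ n) :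
    Ideal.Quotient.factorPow I h ((e n).symm y) = (e m).symm (Ideal.Quotient.factorPow J h y) := by
  apply (e m).injective
  rw [← he, RingEquiv.apply_symm_apply, RingEquiv.apply_symm_apply]

/-- Compatible isomorphisms of the truncations give an isomorphism of the completions. -/
theorem nonempty_equiv (e : ∀ n, R ⧸ I ^ n ≃+* S ⧸ J ^ n)
    (he : ∀ {m n : ℕ} (h : m ≤ n) x, Ideal.Quotient.factorPow J h (e n x) = e m (Ideal.Quotient.factorPow I h x)) :
    Nonempty (AdicCompletion I R ≃+* AdicCompletion J S) := by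
  have c₁ := @compat R S _ _ I J (fun n => (e n).toRingHom) he
  have c₂ := @compat S R _ _ J I (fun n => (e n).symm.toRingHom) (symm_factor e he)
  refine ⟨RingEquiv.ofRingHom (AdicCompletion.liftRingHom J _ c₁) (AdicCompletion.liftRingHom I _ c₂) ?_ ?_⟩
  · refine RingHom.ext fun x => AdicCompletion.ext_evalₐ fun n => ?_
    rw [RingHom.comp_apply, RingHom.id_apply, AdicCompletion.evalₐ_liftRingHom _ _ c₁]
    change e n (AdicCompletion.evalₐ I n (AdicCompletion.liftRingHom I _ c₂ x)) = _
    rw [AdicCompletion.evalₐ_liftRingHom _ _ c₂]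
    exact (e n).apply_symm_apply _
  · refine RingHom.ext fun x => AdicCompletion.ext_evalₐ fun n => ?_
    rw [RingHom.comp_apply, RingHom.id_apply, AdicCompletion.evalₐ_liftRingHom _ _ c₂]
    change (e n).symm (AdicCompletion.evalₐ J n (AdicCompletion.liftRingHom J _ c₁ x)) = _
    rw [AdicCompletion.evalₐ_liftRingHom _ _ c₁]
    exact (e n).symm_apply_apply _

/-- A ring map which is bijective on truncations gives an isomorphism of completions. -/
theorem nonempty_equiv_of_hom (f : R →+* S) (hIJ : ∀ n, I ^ n ≤ (J ^ n).comap f)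
    (hb : ∀ n, Function.Bijective (Ideal.quotientMap (J ^ n) f (hIJ n))) :
    Nonempty (AdicCompletion I R ≃+* AdicCompletion J S) := by
  refine nonempty_equiv (fun n => RingEquiv.ofBijective _ (hb n)) fun {m n} h x => ?_
  obtain ⟨a, rfl⟩ := Ideal.Quotient.mk_surjective x
  rfl

end Groth.Agent.CplBC
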